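import Groth.Agent.GpdField.Section
import Groth.Agent.AlgSpLib.DiagProp
import Groth.Agent.AlgSpLib.DiagCrit

/-!
The diagonal of the arrow map of a groupoid and the unit of its stabilizer.
-/

universe u
open CategoryTheory CategoryTheory.Limits AlgebraicGeometry

set_option backward.isDefEq.respectTransparency false

namespace Groth.Agent.GpdStabDiag

open _root_.AlgSp Groth.Agent.AlgSpLib Gpd

variable {S : Scheme.{u}} {B : Sp S} (G : GroupoidSp B)

/-- the diagonal of the stabilizer is a base change of the diagonal of the arrow map -/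
theorem isPullback_diagonal_stab :
    ∃ M, IsPullback G.stabilizerι (pullback.diagonal G.stabilizerToU) (pullback.diagonal G.j) M := by
  have hc : G.stabilizerι ≫ G.j = G.stabilizerToU ≫ G.diag := pullback.condition
  refine ⟨pullback.map _ _ _ _ G.stabilizerι G.stabilizerι G.diag hc.symm hc.symm, isPullback_of_points ?_ fun T a b e => ?_⟩
  · apply pullback.hom_ext <;> simp [pullback.map]
  · have e1 : a = (b ≫ pullback.fst _ _) ≫ G.stabilizerι := by
      have := congrArg (fun z => z ≫ pullback.fst G.j G.j) e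
      simpa [pullback.map] using this
    have e2 : a = (b ≫ pullback.snd _ _) ≫ G.stabilizerι := by
      have := congrArg (fun z => z ≫ pullback.snd G.j G.j) e
      simpa [pullback.map] using this
    have e3 : b ≫ pullback.fst G.stabilizerToU G.stabilizerToU = b ≫ pullback.snd _ _ := by
      apply pullback.hom_ext
      · exact e1.symm.trans e2
      · rw [Category.assoc, Category.assoc]
        exact congrArg (b ≫ ·) pullback.condition
    refine ⟨b ≫ pullback.fst _ _, ⟨e1.symm, pullback.hom_ext ?_ ?_⟩, fun c hc' => ?_⟩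
    · simp
    · simp [e3]
    · rw [← hc'.2, Category.assoc, pullback.diagonal_fst, Category.comp_id]

/-- the diagonal of the arrow map is a base change of the unit of the stabilizer -/
theorem isPullback_unit_stab (eG : G.U ⟶ G.stabilizer) (heG : eG ≫ G.stabilizerι = G.e) :
    ∃ m, IsPullback G.t (pullback.diagonal G.j) eG m := by
  let a := pullback.fst G.j G.j
  let b := pullback.snd G.j G.j
  have hs : a ≫ G.s = b ≫ G.s := by
    have := congrArg (fun z => z ≫ pullback.snd G.pU G.pU) (pullback.condition (f := G.j) (g := G.j))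
    simpa [GroupoidSp.j_snd] using this
  have ht : a ≫ G.t = b ≫ G.t := by
    have := congrArg (fun z => z ≫ pullback.fst G.pU G.pU) (pullback.condition (f := G.j) (g := G.j))
    simpa [GroupoidSp.j_fst] using this
  have h : a ≫ G.s = (b ≫ G.i) ≫ G.t := by rw [Category.assoc, G.i_t]; exact hs
  have hmu : mul G a (b ≫ G.i) h ≫ G.j = (a ≫ G.t) ≫ G.diag := by
    apply pullback.hom_ext
    · simp only [Category.assoc, GroupoidSp.j_fst, GroupoidSp.diag, pullback.lift_fst, Category.comp_id, mul_t]
    · simp only [Category.assoc, GroupoidSp.j_snd, GroupoidSp.diag, pullback.lift_snd, Category.comp_id, mul_s,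
        G.i_s]
      exact ht.symm
  let m : pullback G.j G.j ⟶ G.stabilizer := pullback.lift (mul G a (b ≫ G.i) h) (a ≫ G.t) hmu
  have hmι : m ≫ G.stabilizerι = mul G a (b ≫ G.i) h := pullback.lift_fst _ _ _
  have hmU : m ≫ G.stabilizerToU = a ≫ G.t := pullback.lift_snd _ _ _
  have hd : ∀ {T : Sp S} (γ : T ⟶ pullback G.j G.j), (γ ≫ a) ≫ G.s = ((γ ≫ b) ≫ G.i) ≫ G.t := fun γ => by
    simp only [Category.assoc, G.i_t]; rw [hs]
  have nat : ∀ {T : Sp S} (γ : T ⟶ pullback G.j G.j),
      γ ≫ mul G a (b ≫ G.i) h = mul G (γ ≫ a) ((γ ≫ b) ≫ G.i) (hd γ) := by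
    intro T γ
    show γ ≫ pullback.lift a (b ≫ G.i) h ≫ G.c = pullback.lift (γ ≫ a) ((γ ≫ b) ≫ G.i) (hd γ) ≫ G.c
    rw [← Category.assoc]
    congr 1
    apply pullback.hom_ext
    · rw [Category.assoc, pullback.lift_fst, pullback.lift_fst]
    · rw [Category.assoc, pullback.lift_snd, pullback.lift_snd, Category.assoc]
  have hda : pullback.diagonal G.j ≫ a = 𝟙 _ := pullback.diagonal_fst _
  have hdb : pullback.diagonal G.j ≫ b = 𝟙 _ := pullback.diagonal_snd _
  have heU : eG ≫ G.stabilizerToU = 𝟙 G.U := by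
    have h1 : eG ≫ G.stabilizerι ≫ G.j = eG ≫ G.stabilizerToU ≫ G.diag := congrArg (eG ≫ ·) pullback.condition
    have h2 := congrArg (fun z => z ≫ pullback.fst G.pU G.pU) h1
    simp only [Category.assoc, GroupoidSp.diag, pullback.lift_fst, Category.comp_id, GroupoidSp.j_fst] at h2
    rw [← h2, reassoc_of% heG, G.e_t]
  refine ⟨m, isPullback_of_points ?_ fun T c d e => ?_⟩
  · apply pullback.hom_ext
    · show (G.t ≫ eG) ≫ G.stabilizerι = (pullback.diagonal G.j ≫ m) ≫ G.stabilizerι
      rw [Category.assoc, Category.assoc, heG, hmι, nat, mul_congr G (hd _) hda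
        (show (pullback.diagonal G.j ≫ b) ≫ G.i = G.i by rw [hdb, Category.id_comp])]
      exact (Category.id_comp _).symm.trans ((G.comp_i (𝟙 G.R)).symm.trans (mul_congr G _ rfl (Category.id_comp G.i)))
    · show (G.t ≫ eG) ≫ G.stabilizerToU = (pullback.diagonal G.j ≫ m) ≫ G.stabilizerToU
      rw [Category.assoc, Category.assoc, hmU, heU, ← Category.assoc, hda, Category.comp_id, Category.id_comp]
  · have h0 : c ≫ G.e = mul G (d ≫ a) ((d ≫ b) ≫ G.i) (hd _) := by
      rw [← nat, ← hmι, ← Category.assoc, ← e, Category.assoc, heG]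
    have hct : c = (d ≫ a) ≫ G.t := by
      have := congrArg (fun z => z ≫ G.stabilizerToU) e
      simp only [Category.assoc, heU, hmU, Category.comp_id] at this
      rw [Category.assoc]; exact this
    have hab : d ≫ a = d ≫ b := by
      have h1 := mul_inv_cancel G (d ≫ a) (d ≫ b) (hd _) (by rw [mul_s, Category.assoc, G.i_s])
      rw [mul_congr G _ (show mul G (d ≫ a) ((d ≫ b) ≫ G.i) (hd _) = (d ≫ b) ≫ G.t ≫ G.e by
        rw [← h0, hct]; simp only [Category.assoc]; rw [reassoc_of% ht]) rfl] at h1
      exact h1.symm.trans (G.e_comp (d ≫ b))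
    refine ⟨d ≫ a, ⟨hct.symm, pullback.hom_ext ?_ ?_⟩, fun z hz => ?_⟩
    · rw [Category.assoc, pullback.diagonal_fst, Category.comp_id]
    · rw [Category.assoc, pullback.diagonal_snd, Category.comp_id]; exact hab
    · rw [← hz.2, Category.assoc, hda, Category.comp_id]

theorem diagonal_cycle (Q : MorphismProperty Scheme.{u}) [Q.IsStableUnderBaseChange] (eG : G.U ⟶ G.stabilizer)
    (heG : eG ≫ G.stabilizerι = G.e) :
    (RepWith Q (pullback.diagonal G.j) ↔ RepWith Q (pullback.diagonal G.stabilizerToU)) ∧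
      (RepWith Q (pullback.diagonal G.j) ↔ RepWith Q eG) := by
  obtain ⟨M, hM⟩ := isPullback_diagonal_stab G
  obtain ⟨m, hm⟩ := isPullback_unit_stab G eG heG
  have heU : eG ≫ G.stabilizerToU = 𝟙 G.U := by
    have h1 : eG ≫ G.stabilizerι ≫ G.j = eG ≫ G.stabilizerToU ≫ G.diag := congrArg (eG ≫ ·) pullback.condition
    have h2 := congrArg (fun z => z ≫ pullback.fst G.pU G.pU) h1
    simp only [Category.assoc, GroupoidSp.diag, pullback.lift_fst, Category.comp_id, GroupoidSp.j_fst] at h2
    rw [← h2, reassoc_of% heG, G.e_t]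
  have h12 : RepWith Q (pullback.diagonal G.j) → RepWith Q (pullback.diagonal G.stabilizerToU) :=
    fun h => repWith_baseChange hM h
  have h23 : RepWith Q (pullback.diagonal G.stabilizerToU) → RepWith Q eG := fun h => repWith_section heU h
  have h31 : RepWith Q eG → RepWith Q (pullback.diagonal G.j) := fun h => repWith_baseChange hm h
  exact ⟨⟨h12, fun h => h31 (h23 h)⟩, ⟨fun h => h23 (h12 h), h31⟩⟩

theorem isQuasiCompactMor_unit_iff (hB : IsAlgSpace B) (hU : IsAlgSpace G.U) (hR : IsAlgSpace G.R)
    (eG : G.U ⟶ G.stabilizer) (heG : eG ≫ G.stabilizerι = G.e) :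
    IsQuasiCompactMor eG ↔ RepWith @QuasiCompact eG := by
  have hUU : IsAlgSpace (pullback G.pU G.pU) :=
    isAlgSpace_of_isPullback_space hB hU hU (IsPullback.of_hasPullback _ _)
  have hst : IsAlgSpace G.stabilizer :=
    isAlgSpace_of_isPullback_space hUU hR hU (IsPullback.of_hasPullback G.j G.diag)
  have h : RepWith @LocallyQuasiFinite eG :=
    (diagonal_cycle G @LocallyQuasiFinite eG heG).2.1 (repWith_diagonal G.j
      (repWith_mono (fun _ _ g hg => hg.1) (repWith_diag_lqf hR)))
  exact isQuasiCompactMor_iff_repWith hU hst h.1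

end Groth.Agent.GpdStabDiag
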